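import Mathlib
import Cfsg.Agent.H352.EP.SpDefs
import Cfsg.Agent.ClassicalGeometry.TwoFamilies
import Cfsg.Agent.LargeExtra.Dickson

/-!
# The quadratic forms of plus type polarising to the symplectic form over the field with two elements

`QP n` : the set of quadratic forms of plus type, with the action of `Sp n`; the action is doubly transitive.
`dk g = (-1)^(dim Fix g)` (Dickson): multiplicative on the stabilizer of every quadratic form, trivial on the
elements fixing a form and a singular Lagrangian, `-1` at the transvections.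
-/

set_option autoImplicit false

open scoped Pointwise Matrix
open Matrix Module

namespace Cfsg.Agent.H797.EP

open Cfsg.Agent.H352.EP

variable {n : ℕ}

theorem z2 (a : ZMod 2) : a = 0 ∨ a = 1 := by
  revert a; decide

theorem z2add (a : ZMod 2) : a + a = 0 := CharTwo.add_self_eq_zero a

theorem vadd (v : Vv n) : v + v = 0 := Prod.ext (vadd_self _) (vadd_self _)

/-- the form as a bilinear form -/
def bf (n : ℕ) : LinearMap.BilinForm (ZMod 2) (Vv n) :=
  LinearMap.mk₂ (ZMod 2) form form_add_left form_smul_left form_add_right form_smul_right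

theorem bf_apply (u v : Vv n) : bf n u v = form u v := rfl

theorem bf_nondeg : (bf n).Nondegenerate :=
  ⟨fun u h => eq_zero_of_form u h, fun u h => eq_zero_of_form u fun v => by rw [form_comm]; exact h v⟩

theorem bf_refl : (bf n).IsRefl := fun u v h => by
  rw [bf_apply] at h ⊢
  rw [form_comm]
  exact h

theorem finrank_Vv : finrank (ZMod 2) (Vv n) = 2 * n := by
  rw [Module.finrank_prod, Module.finrank_fin_fun]
  ring

theorem isLag_orth {S : Submodule (ZMod 2) (Vv n)} (hS : IsLag S) : (bf n).orthogonal S = S := by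
  symm
  apply Submodule.eq_of_le_of_finrank_eq
  · intro u hu v hv
    exact hS.1 v hv u hu
  · rw [LinearMap.BilinForm.finrank_orthogonal bf_nondeg, finrank_Vv, hS.2]
    omega

theorem lag_orth (S : Lag n) : (bf n).orthogonal S.1 = S.1 := isLag_orth S.2

/-- quadratic forms polarising to `form` -/
def IsQF (θ : Vv n → ZMod 2) : Prop := ∀ u v, θ (u + v) = θ u + θ v + form u v

theorem IsQF.zero {θ : Vv n → ZMod 2} (h : IsQF θ) : θ 0 = 0 := by
  have := h 0 0
  rw [add_zero, form_zero_left, add_zero, z2add] at this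
  exact this

theorem IsQF.smul {θ : Vv n → ZMod 2} (h : IsQF θ) (c : ZMod 2) (v : Vv n) : θ (c • v) = c * θ v := by
  rcases z2 c with rfl | rfl
  · rw [zero_smul, zero_mul, h.zero]
  · rw [one_smul, one_mul]

/-- quadratic forms of plus type -/
def IsPlus (θ : Vv n → ZMod 2) : Prop := IsQF θ ∧ ∃ S : Lag n, ∀ v ∈ S.1, θ v = 0

/-- the action on functions -/
def sm (g : Sp n) (θ : Vv n → ZMod 2) : Vv n → ZMod 2 := fun v => θ (g⁻¹ • v)

theorem sm_apply (g : Sp n) (θ : Vv n → ZMod 2) (v : Vv n) : sm g θ v = θ (g⁻¹ • v) := rfl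

theorem sm_one (θ : Vv n → ZMod 2) : sm 1 θ = θ := by
  funext v
  rw [sm_apply, inv_one, one_smul]

theorem sm_mul (g h : Sp n) (θ : Vv n → ZMod 2) : sm (g * h) θ = sm g (sm h θ) := by
  funext v
  rw [sm_apply, sm_apply, sm_apply, _root_.mul_inv_rev, mul_smul]

theorem IsQF.sm {θ : Vv n → ZMod 2} (h : IsQF θ) (g : Sp n) : IsQF (sm g θ) := by
  intro u v
  rw [sm_apply, sm_apply, sm_apply, smul_add, h, form_smul]

theorem IsPlus.sm {θ : Vv n → ZMod 2} (h : IsPlus θ) (g : Sp n) : IsPlus (sm g θ) := by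
  obtain ⟨h1, S, hS⟩ := h
  refine ⟨h1.sm g, g • S, fun v hv => ?_⟩
  rw [coe_smul, mem_act] at hv
  exact hS _ hv

/-- the set of quadratic forms of plus type -/
def QP (n : ℕ) : Type := {θ : Vv n → ZMod 2 // IsPlus θ}

instance : Finite (QP n) := inferInstanceAs (Finite {θ : Vv n → ZMod 2 // IsPlus θ})

noncomputable instance : Fintype (QP n) := Fintype.ofFinite _

instance : MulAction (Sp n) (QP n) where
  smul g θ := ⟨sm g θ.1, θ.2.sm g⟩
  one_smul θ := Subtype.ext (sm_one θ.1)
  mul_smul g h θ := Subtype.ext (sm_mul g h θ.1)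

theorem QP.coe_smul (g : Sp n) (θ : QP n) : (g • θ).1 = sm g θ.1 := rfl

theorem sm_eq_iff {g : Sp n} {θ : Vv n → ZMod 2} : sm g θ = θ ↔ ∀ v, θ (g • v) = θ v := by
  constructor
  · intro h v
    have := congrFun h (g • v)
    rw [sm_apply, inv_smul_smul] at this
    exact this.symm
  · intro h
    funext v
    rw [sm_apply]
    conv_rhs => rw [← smul_inv_smul g v]
    exact (h _).symm

/-- any two quadratic forms differ by a linear form -/
theorem exists_shift {θ θ' : Vv n → ZMod 2} (h : IsQF θ) (h' : IsQF θ') :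
    ∃ w, ∀ v, θ' v = θ v + form w v := by
  let δ : Vv n →+ ZMod 2 :=
    { toFun := fun v => θ' v + θ v
      map_zero' := by rw [h.zero, h'.zero, add_zero]
      map_add' := fun u v => by
        rw [h, h']
        have := z2add (form u v)
        linear_combination this }
  refine ⟨((bf n).toDual bf_nondeg).symm (AddMonoidHom.toZModLinearMap 2 δ), fun v => ?_⟩
  have h1 : form (((bf n).toDual bf_nondeg).symm (AddMonoidHom.toZModLinearMap 2 δ)) v = θ' v + θ v := by
    rw [← bf_apply]
    exact LinearMap.BilinForm.apply_toDual_symm_apply (hB := bf_nondeg)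
      (AddMonoidHom.toZModLinearMap 2 δ) v
  rw [h1]
  have := z2add (θ v)
  linear_combination -this

/-- **Arf**: two forms of plus type differ by `form w` with `w` singular. -/
theorem arf {θ θ' : Vv n → ZMod 2} (h : IsPlus θ) (h' : IsPlus θ') {w : Vv n}
    (hw : ∀ v, θ' v = θ v + form w v) : θ w = 0 := by
  obtain ⟨h1, S, hS⟩ := h
  obtain ⟨h1', S', hS'⟩ := h'
  have h2 : w ∈ S.1 ⊔ S'.1 := by
    have h3 : w ∈ (bf n).orthogonal (S.1 ⊓ S'.1) := by
      intro v hv
      have := hw v
      rw [hS _ hv.1, hS' _ hv.2, zero_add] at this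
      show form v w = 0
      rw [form_comm]
      exact this.symm
    rw [Cfsg.Agent.ClassicalGeometry.TwoFamilies.orthogonal_inf (bf n) bf_nondeg bf_refl, lag_orth,
      lag_orth] at h3
    exact h3
  obtain ⟨s, hs, s', hs', rfl⟩ := Submodule.mem_sup.1 h2
  rw [h1, hS s hs]
  have h3 := hw s'
  rw [hS' s' hs', form_add_left, form_self, add_zero] at h3
  linear_combination -h3

/-! ### transvections -/

/-- the transvection as a linear map -/
def tvf (w : Vv n) : Vv n ≃ₗ[ZMod 2] Vv n where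
  toFun v := v + form v w • w
  invFun v := v + form v w • w
  map_add' u v := by rw [form_add_left, add_smul]; abel
  map_smul' c v := by rw [form_smul_left, smul_add, mul_smul, RingHom.id_apply]
  left_inv v := by
    show v + form v w • w + form (v + form v w • w) w • w = v
    rw [form_add_left, form_smul_left, form_self, mul_zero, add_zero, add_assoc, vadd, add_zero]
  right_inv v := by
    show v + form v w • w + form (v + form v w • w) w • w = v
    rw [form_add_left, form_smul_left, form_self, mul_zero, add_zero, add_assoc, vadd, add_zero]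

theorem tvf_apply (w v : Vv n) : tvf w v = v + form v w • w := rfl

theorem tvf_mem (w : Vv n) : tvf w ∈ Sp n := by
  intro u v
  rw [tvf_apply, tvf_apply, form_add_left, form_add_right, form_add_right, form_smul_left, form_smul_left,
    form_smul_right, form_smul_right, form_self, form_comm w v]
  have := z2add (form u w * form v w)
  linear_combination this

/-- the transvection -/
def tv (w : Vv n) : Sp n := ⟨tvf w, tvf_mem w⟩

theorem tv_smul (w v : Vv n) : tv w • v = v + form v w • w := rfl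

theorem tv_mul_self (w : Vv n) : tv w * tv w = 1 := Subtype.ext (LinearEquiv.ext (tvf w).left_inv)

theorem tv_inv (w : Vv n) : (tv w)⁻¹ = tv w := inv_eq_of_mul_eq_one_left (tv_mul_self w)

theorem sm_tv {θ : Vv n → ZMod 2} (h : IsQF θ) (w v : Vv n) :
    sm (tv w) θ v = θ v + form v w * (θ w + 1) := by
  rw [sm_apply, tv_inv, tv_smul, h, h.smul, form_smul_right]
  rcases z2 (form v w) with h1 | h1 <;> rw [h1] <;> ring

theorem sm_tv_of_one {θ : Vv n → ZMod 2} (h : IsQF θ) {w : Vv n} (hw : θ w = 1) : sm (tv w) θ = θ := by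
  funext v
  rw [sm_tv h, hw, z2add, mul_zero, add_zero]

theorem sm_tv_of_zero {θ : Vv n → ZMod 2} (h : IsQF θ) {w : Vv n} (hw : θ w = 0) (v : Vv n) :
    sm (tv w) θ v = θ v + form w v := by
  rw [sm_tv h, hw, zero_add, mul_one, form_comm]

instance : MulAction.IsPretransitive (Sp n) (QP n) where
  exists_smul_eq θ θ' := by
    obtain ⟨w, hw⟩ := exists_shift θ.2.1 θ'.2.1
    refine ⟨tv w, Subtype.ext (funext fun v => ?_)⟩
    rw [QP.coe_smul, sm_tv_of_zero θ.2.1 (arf θ.2 θ'.2 hw), hw]

theorem exists_dual {w w' : Vv n} (hw : w ≠ 0) (hw' : w' ≠ 0) : ∃ z, form z w = 1 ∧ form z w' = 1 := by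
  have key : ∀ w : Vv n, w ≠ 0 → ∃ z, form z w = 1 := by
    intro w hw
    by_contra hcon
    push Not at hcon
    apply hw
    apply eq_zero_of_form
    intro v
    rw [form_comm]
    exact (z2 _).resolve_right (hcon v)
  obtain ⟨z1, h1⟩ := key w hw
  obtain ⟨z2', h2⟩ := key w' hw'
  rcases z2 (form z1 w') with h3 | h3
  · rcases z2 (form z2' w) with h4 | h4
    · exact ⟨z1 + z2', by rw [form_add_left, h1, h4, add_zero], by rw [form_add_left, h3, h2, zero_add]⟩
    · exact ⟨z2', h4, h2⟩
  · exact ⟨z1, h1, h3⟩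

theorem trans_one {θ : Vv n → ZMod 2} (h : IsQF θ) {w w' : Vv n} (hw : θ w = 0) (hw' : θ w' = 0)
    (hf : form w w' = 1) : sm (tv (w + w')) θ = θ ∧ tv (w + w') • w = w' := by
  constructor
  · apply sm_tv_of_one h
    rw [h, hw, hw', hf, add_zero, zero_add]
  · rw [tv_smul, form_add_right, form_self, hf, zero_add, one_smul, ← add_assoc, vadd, zero_add]

/-- the isometry group of a form is transitive on the singular vectors -/
theorem trans_sing {θ : Vv n → ZMod 2} (h : IsQF θ) {w w' : Vv n} (hw0 : w ≠ 0) (hw0' : w' ≠ 0) (hw : θ w = 0)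
    (hw' : θ w' = 0) : ∃ g : Sp n, sm g θ = θ ∧ g • w = w' := by
  rcases z2 (form w w') with hf | hf
  · obtain ⟨z0, h1, h2⟩ := exists_dual hw0 hw0'
    obtain ⟨z, h3, h4, h5⟩ : ∃ z, form z w = 1 ∧ form z w' = 1 ∧ θ z = 0 := by
      rcases z2 (θ z0) with h3 | h3
      · exact ⟨z0, h1, h2, h3⟩
      · refine ⟨z0 + w, by rw [form_add_left, h1, form_self, add_zero], by rw [form_add_left, h2, hf, add_zero],
          ?_⟩
        rw [h, h3, hw, h1, add_zero, z2add]
    have e1 := trans_one h hw h5 (by rw [form_comm]; exact h3)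
    have e2 := trans_one h h5 hw' h4
    refine ⟨tv (z + w') * tv (w + z), ?_, ?_⟩
    · rw [sm_mul, e1.1, e2.1]
    · rw [mul_smul, e1.2, e2.2]
  · exact ⟨_, trans_one h hw hw' hf⟩

theorem two_trans : MulAction.IsMultiplyPretransitive (Sp n) (QP n) 2 := by
  rw [MulAction.is_two_pretransitive_iff]
  intro a b c d hab hcd
  obtain ⟨g, rfl⟩ := MulAction.exists_smul_eq (Sp n) a c
  obtain ⟨w, hw⟩ := exists_shift (g • a).2.1 (g • b).2.1
  obtain ⟨w', hw'⟩ := exists_shift (g • a).2.1 d.2.1
  have h1 := arf (g • a).2 (g • b).2 hw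
  have h1' := arf (g • a).2 d.2 hw'
  have h0 : w ≠ 0 := by
    rintro rfl
    apply hab
    have : g • a = g • b := Subtype.ext (funext fun v => by rw [hw, form_zero_left, add_zero])
    exact MulAction.injective g this
  have h0' : w' ≠ 0 := by
    rintro rfl
    apply hcd
    exact Subtype.ext (funext fun v => by rw [hw', form_zero_left, add_zero])
  obtain ⟨t, ht, hwt⟩ := trans_sing (g • a).2.1 h0 h0' h1 h1'
  refine ⟨t * g, ?_, ?_⟩
  · rw [mul_smul]
    exact Subtype.ext ht
  · rw [mul_smul]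
    refine Subtype.ext (funext fun v => ?_)
    have e1 : (t • g • b).1 v = (g • b).1 (t⁻¹ • v) := rfl
    have e2 : (g • a).1 (t⁻¹ • v) = (g • a).1 v := congrFun ht v
    have e3 : form w (t⁻¹ • v) = form w' v := by
      rw [← hwt, ← form_smul t, smul_inv_smul]
    rw [e1, hw, e2, e3, ← hw']

/-! ### the Dickson sign -/

/-- the sign `(-1)^(dim Fix g)` -/
noncomputable def dk (g : Sp n) : ℂ :=
  (-1) ^ finrank (ZMod 2) (Cfsg.Agent.LargeExtra.Dickson.fix (g : Vv n ≃ₗ[ZMod 2] Vv n))

theorem dk_sq (g : Sp n) : dk g = 1 ∨ dk g = -1 := neg_one_pow_eq_or ℂ _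

theorem dk_mul {θ : Vv n → ZMod 2} (h : IsQF θ) {f g : Sp n} (hf : sm f θ = θ) (hg : sm g θ = θ) :
    dk (f * g) = dk f * dk g := by
  have h1 := Cfsg.Agent.LargeExtra.Dickson.even_sum θ (bf n) h (fun v hv => eq_zero_of_form v hv)
    form_comm (f : Vv n ≃ₗ[ZMod 2] Vv n) (g : Vv n ≃ₗ[ZMod 2] Vv n) (sm_eq_iff.1 hf) (sm_eq_iff.1 hg)
  rw [finrank_Vv] at h1
  unfold dk
  rw [← pow_add]
  have h2 : ((f * g : Sp n) : Vv n ≃ₗ[ZMod 2] Vv n) = (f : Vv n ≃ₗ[ZMod 2] Vv n) * g := rfl
  rw [h2, neg_one_pow_congr]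
  rw [Nat.even_iff] at h1 ⊢
  rw [Nat.even_iff]
  omega

theorem dk_one : dk (1 : Sp n) = 1 := by
  have h1 : Cfsg.Agent.LargeExtra.Dickson.fix ((1 : Sp n) : Vv n ≃ₗ[ZMod 2] Vv n) = ⊤ := by
    ext v
    simp [Cfsg.Agent.LargeExtra.Dickson.mem_fix]
  unfold dk
  rw [h1, finrank_top, finrank_Vv, pow_mul]
  norm_num

theorem dk_conj (t g : Sp n) : dk (t * g * t⁻¹) = dk g := by
  unfold dk
  congr 1
  have h1 : Cfsg.Agent.LargeExtra.Dickson.fix ((t * g * t⁻¹ : Sp n) : Vv n ≃ₗ[ZMod 2] Vv n) =
      (Cfsg.Agent.LargeExtra.Dickson.fix (g : Vv n ≃ₗ[ZMod 2] Vv n)).map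
        ((t : Vv n ≃ₗ[ZMod 2] Vv n) : Vv n →ₗ[ZMod 2] Vv n) := by
    ext v
    rw [Cfsg.Agent.LargeExtra.Dickson.mem_fix]
    show (t * g * t⁻¹) • v = v ↔ _
    constructor
    · intro h
      refine ⟨t⁻¹ • v, ?_, smul_inv_smul t v⟩
      show g • t⁻¹ • v = t⁻¹ • v
      rw [eq_inv_smul_iff, ← mul_smul, ← mul_smul]
      exact h
    · rintro ⟨u, hu, rfl⟩
      have hu' : g • u = u := hu
      show (t * g * t⁻¹) • (t • u) = t • u
      rw [mul_smul, inv_smul_smul, mul_smul, hu']
  rw [h1]
  exact LinearEquiv.finrank_map_eq (t : Vv n ≃ₗ[ZMod 2] Vv n) _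

theorem finrank_prod_self (S : Submodule (ZMod 2) (Vv n)) :
    finrank (ZMod 2) (S.prod S) = finrank (ZMod 2) S + finrank (ZMod 2) S := by
  rw [Cfsg.Agent.ClassicalGeometry.TwoFamilies.finrank_eq_map_fst_add, Submodule.prod_map_fst,
    Submodule.prod_comap_inr]

theorem finrank_graph_prod (S : Submodule (ZMod 2) (Vv n)) (f : Vv n →ₗ[ZMod 2] Vv n) (hf : ∀ v ∈ S, f v ∈ S) :
    finrank (ZMod 2) ↥(f.graph ⊓ S.prod S) = finrank (ZMod 2) S := by
  have hinj : Function.Injective (LinearMap.id.prod f : Vv n →ₗ[ZMod 2] Vv n × Vv n) := by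
    intro x y hxy
    exact congrArg Prod.fst hxy
  have h1 : f.graph ⊓ S.prod S = S.map (LinearMap.id.prod f) := by
    ext x
    rw [Submodule.mem_inf, LinearMap.mem_graph_iff, Submodule.mem_map]
    constructor
    · rintro ⟨h1, h2, -⟩
      exact ⟨x.1, h2, Prod.ext rfl h1.symm⟩
    · rintro ⟨y, hy, rfl⟩
      exact ⟨rfl, hy, hf y hy⟩
  rw [h1]
  exact (Submodule.equivMapOfInjective _ hinj S).finrank_eq.symm

/-- `dk g = 1` if `g` fixes a form and one of its singular Lagrangians. -/
theorem dk_lag {θ : Vv n → ZMod 2} (h : IsQF θ) {g : Sp n} (hg : sm g θ = θ) {S : Lag n}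
    (hS : ∀ v ∈ S.1, θ v = 0) (hgS : g • S = S) : dk g = 1 := by
  have hadd : ∀ x : ZMod 2, x + x = 0 := by decide
  have hgθ := sm_eq_iff.1 hg
  have hfin : finrank (ZMod 2) (Vv n × Vv n) = 2 * (2 * n) := by
    rw [Module.finrank_prod, finrank_Vv]; ring
  have hnd : (Cfsg.Agent.LargeExtra.Dickson.BB (bf n)).Nondegenerate := by
    have hs : ∀ x y, Cfsg.Agent.LargeExtra.Dickson.BB (bf n) x y =
        Cfsg.Agent.LargeExtra.Dickson.BB (bf n) y x := fun x y => by
      rw [Cfsg.Agent.LargeExtra.Dickson.BB_apply, Cfsg.Agent.LargeExtra.Dickson.BB_apply, bf_apply, bf_apply,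
        bf_apply, bf_apply, form_comm x.1, form_comm x.2]
    have hl : ∀ x : Vv n × Vv n, (∀ y, Cfsg.Agent.LargeExtra.Dickson.BB (bf n) x y = 0) → x = 0 := by
      intro x hx
      apply Prod.ext
      · apply eq_zero_of_form
        intro w
        have := hx (w, 0)
        rw [Cfsg.Agent.LargeExtra.Dickson.BB_apply, map_zero, add_zero] at this
        exact this
      · apply eq_zero_of_form
        intro w
        have := hx (0, w)
        rw [Cfsg.Agent.LargeExtra.Dickson.BB_apply, map_zero, zero_add] at this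
        exact this
    exact ⟨hl, fun y hy => hl y fun x => by rw [hs]; exact hy x⟩
  have hrefl : (Cfsg.Agent.LargeExtra.Dickson.BB (bf n)).IsRefl := by
    intro x y hxy
    rw [Cfsg.Agent.LargeExtra.Dickson.BB_apply, bf_apply, bf_apply] at hxy ⊢
    rw [form_comm y.1, form_comm y.2]
    exact hxy
  have hq' : ∀ x y : Vv n × Vv n, (θ (x + y).1 + θ (x + y).2) =
      (θ x.1 + θ x.2) + (θ y.1 + θ y.2) + Cfsg.Agent.LargeExtra.Dickson.BB (bf n) x y := by
    intro x y
    rw [Cfsg.Agent.LargeExtra.Dickson.BB_apply, Prod.fst_add, Prod.snd_add, h, h, bf_apply, bf_apply]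
    abel
  let g' : Vv n ≃ₗ[ZMod 2] Vv n := g
  let SS : Submodule (ZMod 2) (Vv n × Vv n) := S.1.prod S.1
  have hSn : finrank (ZMod 2) S.1 = n := S.2.2
  have hSS : finrank (ZMod 2) SS = 2 * n := by
    have h1 : finrank (ZMod 2) SS = finrank (ZMod 2) S.1 + finrank (ZMod 2) S.1 := finrank_prod_self S.1
    rw [h1, hSn, two_mul]
  have key := Cfsg.Agent.ClassicalGeometry.TwoFamilies.even_intersections
    (B := Cfsg.Agent.LargeExtra.Dickson.BB (bf n))
    (fun x => θ x.1 + θ x.2) hq' hnd hrefl (2 * n) hfin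
    (LinearMap.id (R := ZMod 2) (M := Vv n)).graph g'.toLinearMap.graph SS
    (by rw [Cfsg.Agent.LargeExtra.Dickson.finrank_graph, finrank_Vv])
    (by rw [Cfsg.Agent.LargeExtra.Dickson.finrank_graph, finrank_Vv]) hSS
    (fun x hx => by
      rw [LinearMap.mem_graph_iff] at hx
      show θ x.1 + θ x.2 = 0
      rw [hx]
      exact hadd _)
    (fun x hx => by
      rw [LinearMap.mem_graph_iff] at hx
      show θ x.1 + θ x.2 = 0
      rw [hx]
      show θ x.1 + θ (g • x.1) = 0
      rw [hgθ]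
      exact hadd _)
    (fun x hx => by
      have h1 := hS _ hx.1
      have h2 := hS _ hx.2
      show θ x.1 + θ x.2 = 0
      rw [h1, h2, add_zero])
  have hgS' : ∀ v ∈ S.1, g'.toLinearMap v ∈ S.1 := by
    intro v hv
    have h1 : g • v ∈ (g • S).1 := (smul_mem_act g S.1 v).2 hv
    rw [hgS] at h1
    exact h1
  have k1 : finrank (ZMod 2) ↥((LinearMap.id (R := ZMod 2) (M := Vv n)).graph ⊓ SS) = n :=
    (finrank_graph_prod S.1 _ fun v hv => hv).trans hSn
  have k2 : finrank (ZMod 2) ↥(g'.toLinearMap.graph ⊓ SS) = n :=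
    (finrank_graph_prod S.1 _ hgS').trans hSn
  rw [Cfsg.Agent.LargeExtra.Dickson.finrank_graph_inf, k1, k2] at key
  have e3 : LinearMap.eqLocus (LinearMap.id (R := ZMod 2) (M := Vv n)) g'.toLinearMap =
      Cfsg.Agent.LargeExtra.Dickson.fix g' := by
    ext v
    show v = g' v ↔ g' v = v
    exact eq_comm
  rw [e3] at key
  unfold dk
  apply Even.neg_one_pow
  rw [Nat.even_iff] at key ⊢
  show finrank (ZMod 2) ↥(Cfsg.Agent.LargeExtra.Dickson.fix g') % 2 = 0
  omega

theorem dk_tv {w : Vv n} (hw : w ≠ 0) : dk (tv w) = -1 := by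
  have h1 : Cfsg.Agent.LargeExtra.Dickson.fix ((tv w : Sp n) : Vv n ≃ₗ[ZMod 2] Vv n) =
      (bf n).orthogonal (Submodule.span (ZMod 2) {w}) := by
    ext v
    rw [Cfsg.Agent.LargeExtra.Dickson.mem_fix, LinearMap.BilinForm.mem_orthogonal_iff]
    show v + form v w • w = v ↔ _
    rw [add_eq_left, smul_eq_zero, or_iff_left hw]
    constructor
    · intro h1 u hu
      obtain ⟨c, rfl⟩ := Submodule.mem_span_singleton.1 hu
      show form (c • w) v = 0
      rw [form_smul_left, form_comm, h1, mul_zero]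
    · intro h1
      rw [form_comm]
      exact h1 w (Submodule.mem_span_singleton_self w)
  unfold dk
  have hn : n ≠ 0 := by
    rintro rfl
    exact hw (Prod.ext (Subsingleton.elim _ _) (Subsingleton.elim _ _))
  rw [h1, LinearMap.BilinForm.finrank_orthogonal bf_nondeg, finrank_Vv, finrank_span_singleton hw]
  apply Odd.neg_one_pow
  rw [Nat.odd_iff]
  omega

/-- the permutation character on the forms of plus type -/
noncomputable def Op (g : Sp n) : ℂ := (Nat.card (MulAction.fixedBy (QP n) g) : ℂ)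

/-- the character induced from the Dickson sign of the isometry group of a form of plus type -/
noncomputable def Psi (g : Sp n) : ℂ := dk g * Op g

end Cfsg.Agent.H797.EP
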