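import Mathlib
import Cfsg.Agent.H797.EP.Forms
import Cfsg.Agent.H797.EP.Gen
import Cfsg.Agent.H352.EP.SpWt
import Cfsg.Agent.CharDeep.LinearChar
import Cfsg.Agent.S0148
import Cfsg.Agent.S0157
import Cfsg.Agent.S0190

/-!
# The characters `rho` and `beta` of `Sp_2n(2)`

`Op = 1 + rho`, `Psi = Ind (Dickson sign)`; `Sp n` is transitive on the Lagrangians; `⟨Psi, piL⟩ = 1`;
`beta` = the common constituent; `Psi` and `beta` have no fixed vectors of subgroups containing enough transvections.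
-/

set_option autoImplicit false
set_option linter.unusedSectionVars false

open scoped Pointwise Matrix ComplexConjugate
open Matrix Module Cfsg Cfsg.Agent.Characters.Core

namespace Cfsg.Agent.H797.EP

open Cfsg.Agent.H352.EP

variable {n : ℕ}

/-! ### Lagrangians -/

theorem lag_mem_iff (S : Lag n) (v : Vv n) : v ∈ S.1 ↔ ∀ u ∈ S.1, form u v = 0 := by
  constructor
  · intro hv u hu
    exact S.2.1 u hu v hv
  · intro h
    have h1 : v ∈ (bf n).orthogonal S.1 := h
    rw [lag_orth] at h1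
    exact h1

theorem lag_trans_aux (k : ℕ) : ∀ S S' : Lag n, n - finrank (ZMod 2) ↥(S.1 ⊓ S'.1) = k →
    ∃ g : Sp n, g • S = S' := by
  induction k using Nat.strong_induction_on with
  | _ k ih =>
  intro S S' h
  have hSn : finrank (ZMod 2) S.1 = n := S.2.2
  have hSn' : finrank (ZMod 2) S'.1 = n := S'.2.2
  by_cases hle : S.1 ≤ S'.1
  · refine ⟨1, ?_⟩
    rw [one_smul]
    exact Lag.ext (Submodule.eq_of_le_of_finrank_eq hle (hSn.trans hSn'.symm))
  obtain ⟨v, hv, hv'⟩ := SetLike.not_le_iff_exists.1 hle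
  rw [lag_mem_iff] at hv'
  push Not at hv'
  obtain ⟨u, hu, huv⟩ := hv'
  have huv1 : form u v = 1 := (z2 _).resolve_left huv
  -- the transvection `t` with `t v = u`
  have htv : tv (u + v) • v = u := by
    rw [tv_smul, form_add_right, form_comm v u, huv1, form_self, add_zero, one_smul, add_comm u v,
      ← add_assoc, vadd, zero_add]
  have hfix : ∀ s ∈ S.1 ⊓ S'.1, tv (u + v) • s = s := by
    intro s hs
    rw [tv_smul, form_add_right, S.2.1 s hs.1 v hv, S'.2.1 s hs.2 u hu, add_zero, zero_smul, add_zero]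
  have huS : u ∉ S.1 := fun h1 => huv (S.2.1 u h1 v hv)
  -- the intersection grows
  have hlt : S.1 ⊓ S'.1 < (tv (u + v) • S).1 ⊓ S'.1 := by
    refine lt_of_le_of_ne ?_ ?_
    · intro s hs
      refine ⟨?_, hs.2⟩
      rw [← hfix s hs]
      exact (smul_mem_act _ _ _).2 hs.1
    · intro he
      apply huS
      have h1 : u ∈ (tv (u + v) • S).1 ⊓ S'.1 := by
        refine ⟨?_, hu⟩
        have h2 : tv (u + v) • v ∈ (tv (u + v) • S).1 := (smul_mem_act _ _ _).2 hv
        rw [htv] at h2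
        exact h2
      rw [← he] at h1
      exact h1.1
  have hlt' := Submodule.finrank_lt_finrank_of_lt hlt
  have hle' : finrank (ZMod 2) ↥((tv (u + v) • S).1 ⊓ S'.1) ≤ n := by
    have := Submodule.finrank_mono (inf_le_right : (tv (u + v) • S).1 ⊓ S'.1 ≤ S'.1)
    omega
  obtain ⟨g, hg⟩ := ih (n - finrank (ZMod 2) ↥((tv (u + v) • S).1 ⊓ S'.1)) (by omega) (tv (u + v) • S) S' rfl
  exact ⟨g * tv (u + v), by rw [mul_smul]; exact hg⟩

instance : MulAction.IsPretransitive (Sp n) (Lag n) := ⟨fun S S' => lag_trans_aux _ S S' rfl⟩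

/-- the Lagrangian `{(a, 0)}` -/
def lagW (n : ℕ) : Lag n := ⟨LinearMap.range (LinearMap.inl (ZMod 2) (Fin n → ZMod 2) (Fin n → ZMod 2)), by
  constructor
  · rintro _ ⟨a, rfl⟩ _ ⟨b, rfl⟩
    show a ⬝ᵥ (0 : Fin n → ZMod 2) + (0 : Fin n → ZMod 2) ⬝ᵥ b = 0
    rw [dotProduct_zero, zero_dotProduct, add_zero]
  · rw [LinearMap.finrank_range_of_inj LinearMap.inl_injective, Module.finrank_fin_fun]⟩

theorem mem_lagW (v : Vv n) : v ∈ (lagW n).1 ↔ v.2 = 0 := by
  constructor
  · rintro ⟨a, rfl⟩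
    rfl
  · intro h
    exact ⟨v.1, Prod.ext rfl h.symm⟩

/-- the Lagrangian `{(0, b)}` -/
def lagC (n : ℕ) : Lag n := ⟨LinearMap.range (LinearMap.inr (ZMod 2) (Fin n → ZMod 2) (Fin n → ZMod 2)), by
  constructor
  · rintro _ ⟨a, rfl⟩ _ ⟨b, rfl⟩
    show (0 : Fin n → ZMod 2) ⬝ᵥ b + a ⬝ᵥ (0 : Fin n → ZMod 2) = 0
    rw [dotProduct_zero, zero_dotProduct, add_zero]
  · rw [LinearMap.finrank_range_of_inj LinearMap.inr_injective, Module.finrank_fin_fun]⟩

theorem mem_lagC (v : Vv n) : v ∈ (lagC n).1 ↔ v.1 = 0 := by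
  constructor
  · rintro ⟨a, rfl⟩
    rfl
  · intro h
    exact ⟨v.2, Prod.ext h.symm rfl⟩

/-- the base form -/
def th0 (v : Vv n) : ZMod 2 := v.1 ⬝ᵥ v.2

theorem th0_qf : IsQF (th0 (n := n)) := by
  intro u v
  simp only [th0, form, Prod.fst_add, Prod.snd_add, add_dotProduct, dotProduct_add]
  rw [dotProduct_comm v.1 u.2]
  ring

theorem th0_lagW (v : Vv n) (hv : v ∈ (lagW n).1) : th0 v = 0 := by
  rw [mem_lagW] at hv
  rw [th0, hv, dotProduct_zero]

theorem th0_lagC (v : Vv n) (hv : v ∈ (lagC n).1) : th0 v = 0 := by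
  rw [mem_lagC] at hv
  rw [th0, hv, zero_dotProduct]

def q0 (n : ℕ) : QP n := ⟨th0, th0_qf, lagW n, th0_lagW⟩

/-! ### Characters -/

theorem isCharacter_Op : IsCharacter (Sp n) (Op (n := n)) := Cfsg.Agent.S0157.isCharacter_fixedBy (QP n)

theorem isCharacter_piL : IsCharacter (Sp n) (piL n) := Cfsg.Agent.S0157.isCharacter_fixedBy (Lag n)

theorem dk_ne (g : Sp n) : dk g ≠ 0 := by
  rcases dk_sq g with h | h <;> rw [h] <;> norm_num

theorem dk_mul' (θ : QP n) {f g : Sp n} (hf : f • θ = θ) (hg : g • θ = θ) : dk (f * g) = dk f * dk g :=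
  dk_mul θ.2.1 (congrArg Subtype.val hf) (congrArg Subtype.val hg)

theorem dk_class : IsClassFunction (Sp n) (dk (n := n)) := fun g h => dk_conj h g

/-- the Dickson sign as a linear character of the stabilizer of a form -/
noncomputable def dkHom (θ : QP n) : MulAction.stabilizer (Sp n) θ →* ℂˣ where
  toFun h := Units.mk0 (dk (h : Sp n)) (dk_ne _)
  map_one' := Units.ext dk_one
  map_mul' f g := Units.ext (dk_mul' θ f.2 g.2)

theorem isCharacter_Psi : IsCharacter (Sp n) (Psi (n := n)) := by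
  have h1 : (Op (n := n)) = indFun (MulAction.stabilizer (Sp n) (q0 n)) (fun _ => 1) :=
    Cfsg.Agent.S0190.result (QP n) (q0 n)
  have h2 : (Psi (n := n)) = indFun (MulAction.stabilizer (Sp n) (q0 n)) (fun h => ((dkHom (q0 n) h : ℂˣ) : ℂ)) := by
    have h3 := Cfsg.Agent.Characters.Brauer.indFun_mul (MulAction.stabilizer (Sp n) (q0 n)) (fun _ => 1)
      (dk (n := n)) dk_class
    have h4 : (Psi (n := n)) = Op * dk := by
      funext g
      rw [Pi.mul_apply, Psi, mul_comm]
    rw [h4, h1, h3]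
    congr 1
    funext h
    rw [one_mul]
    rfl
  rw [h2]
  exact Cfsg.Agent.S0148.result _ _ (Cfsg.Agent.CharDeep.LinearChar.isCharacter_of_hom _)

theorem exists_one (θ : Vv n → ZMod 2) (hθ : IsQF θ) (hn : 0 < n) : ∃ v, θ v = 1 := by
  by_contra hcon
  push Not at hcon
  have h0 : ∀ v, θ v = 0 := fun v => (z2 _).resolve_right (hcon v)
  have h1 : ∀ u v : Vv n, form u v = 0 := by
    intro u v
    have := hθ u v
    rw [h0, h0, h0, zero_add, zero_add] at this
    exact this.symm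
  have h2 : ((Pi.single ⟨0, hn⟩ 1, 0) : Vv n) = 0 := eq_zero_of_form _ fun v => h1 _ v
  have h3 := congrFun (congrArg Prod.fst h2) ⟨0, hn⟩
  simp at h3

theorem ne_zero_of_one {θ : Vv n → ZMod 2} (hθ : IsQF θ) {v : Vv n} (h : θ v = 1) : v ≠ 0 := by
  rintro rfl
  rw [hθ.zero] at h
  exact zero_ne_one h

theorem tv_smul_of_one (θ : QP n) {v : Vv n} (h : θ.1 v = 1) : tv v • θ = θ := Subtype.ext (sm_tv_of_one θ.2.1 h)

theorem two_le_card (hn : 0 < n) : 2 ≤ Nat.card (QP n) := by
  obtain ⟨w, hw, hw0⟩ : ∃ w : Vv n, w ≠ 0 ∧ th0 w = 0 := by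
    refine ⟨(Pi.single ⟨0, hn⟩ 1, 0), ?_, ?_⟩
    · intro h
      have h3 := congrFun (congrArg Prod.fst h) ⟨0, hn⟩
      simp at h3
    · rw [th0, dotProduct_zero]
  have hne : tv w • q0 n ≠ q0 n := by
    intro h
    have h1 : ∀ v, form w v = 0 := by
      intro v
      have h2 : (tv w • q0 n).1 v = (q0 n).1 v := by rw [h]
      have h3 : (tv w • q0 n).1 v = th0 v + form w v := sm_tv_of_zero th0_qf hw0 v
      have h4 : (q0 n).1 v = th0 v := rfl
      rw [h3, h4] at h2
      exact add_eq_left.1 h2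
    exact hw (eq_zero_of_form w h1)
  rw [← Nat.lt_iff_add_one_le, Finite.one_lt_card_iff_nontrivial]
  exact ⟨_, _, hne⟩

theorem rho_irr (hn : 0 < n) : IsIrrCharacter (Sp n) (fun g => Op (n := n) g - 1) :=
  (Cfsg.Agent.S0157.result (QP n) (two_le_card hn)).2 two_trans

/-- `Op = 1 + rho` -/
noncomputable def rho (hn : 0 < n) : IrrCharacter (Sp n) := ⟨fun g => Op g - 1, rho_irr hn⟩

theorem rho_apply (hn : 0 < n) (g : Sp n) : (rho hn : Sp n → ℂ) g = Op g - 1 := rfl

/-- the sum of `Psi` over a subgroup -/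
theorem psi_sum_zero {H : Type*} [Group H] [Fintype H] (i : H →* Sp n)
    (hY : ∀ θ : QP n, ∃ h : H, i h • θ = θ ∧ dk (i h) = -1) : ∑ h : H, Psi (i h) = 0 := by
  refine sum_twist_zero (Ω := QP n) i (fun h => dk (i h)) (fun θ f g hf hg => ?_) (fun θ => ?_)
  · rw [map_mul]
    exact dk_mul' θ hf hg
  · obtain ⟨h, h1, h2⟩ := hY θ
    exact ⟨h, h1, by rw [h2]; norm_num⟩

theorem classInner_psi_one (hn : 0 < n) : classInner (Psi (n := n)) 1 = 0 := by
  rw [classInner_def]
  have h1 : ∑ g : Sp n, Psi g * conj ((1 : Sp n → ℂ) g) = ∑ g : Sp n, Psi (MonoidHom.id (Sp n) g) :=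
    Finset.sum_congr rfl fun g _ => by simp
  rw [h1, psi_sum_zero, mul_zero]
  intro θ
  obtain ⟨v, hv⟩ := exists_one θ.1 θ.2.1 hn
  exact ⟨tv v, tv_smul_of_one θ hv, dk_tv (ne_zero_of_one θ.2.1 hv)⟩

/-- the average of `Psi` over the stabilizer of the Lagrangian `lagW` -/
theorem sum_psi_stab [Fintype (MulAction.stabilizer (Sp n) (lagW n))] : ∑ h : MulAction.stabilizer (Sp n) (lagW n), Psi (h : Sp n) =
    Nat.card (MulAction.stabilizer (Sp n) (lagW n)) := by
  refine sum_twist_one (Ω := QP n) (MulAction.stabilizer (Sp n) (lagW n)).subtype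
    (fun h => dk (h : Sp n)) (fun θ f g hf hg => dk_mul' θ hf hg) (q0 n) fun θ => ?_
  constructor
  · intro h
    -- `θ` vanishes on `lagW`
    have h1 : ∀ v ∈ (lagW n).1, θ.1 v = 0 := by
      intro v hv
      by_contra hne
      have h2 : θ.1 v = 1 := (z2 _).resolve_left hne
      have h3 : tv v ∈ MulAction.stabilizer (Sp n) (lagW n) := by
        rw [MulAction.mem_stabilizer_iff]
        apply Lag.ext
        apply Submodule.eq_of_le_of_finrank_eq
        · intro u hu
          have hu' : (tv v)⁻¹ • u ∈ (lagW n).1 := (mem_act _ _ _).1 hu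
          rw [tv_inv, tv_smul] at hu'
          by_contra hcon
          rcases z2 (form u v) with h4 | h4
          · rw [h4, zero_smul, add_zero] at hu'
            exact hcon hu'
          · rw [h4, one_smul] at hu'
            apply hcon
            have := Submodule.sub_mem _ hu' hv
            rwa [add_sub_cancel_right] at this
        · have e1 : finrank (ZMod 2) (tv v • lagW n).1 = n := (tv v • lagW n).2.2
          have e2 : finrank (ZMod 2) (lagW n).1 = n := (lagW n).2.2
          rw [e1, e2]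
      have h4 := h ⟨tv v, h3⟩ (tv_smul_of_one θ h2)
      have h5 : dk (tv v) = 1 := h4
      rw [dk_tv (ne_zero_of_one θ.2.1 h2)] at h5
      norm_num at h5
    -- `θ = th0 + form w`
    obtain ⟨w, hw⟩ := exists_shift th0_qf θ.2.1
    have hw0 : th0 w = 0 := arf (q0 n).2 θ.2 hw
    have hwW : w ∈ (lagW n).1 := by
      rw [lag_mem_iff]
      intro u hu
      have := hw u
      rw [h1 u hu, th0_lagW u hu, zero_add] at this
      rw [form_comm]
      exact this.symm
    have h3 : tv w ∈ MulAction.stabilizer (Sp n) (lagW n) := by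
      rw [MulAction.mem_stabilizer_iff]
      apply Lag.ext
      apply Submodule.eq_of_le_of_finrank_eq
      · intro u hu
        have hu' : (tv w)⁻¹ • u ∈ (lagW n).1 := (mem_act _ _ _).1 hu
        rw [tv_inv, tv_smul] at hu'
        have := Submodule.sub_mem _ hu' (Submodule.smul_mem _ (form u w) hwW)
        rwa [add_sub_cancel_right] at this
      · have e1 : finrank (ZMod 2) (tv w • lagW n).1 = n := (tv w • lagW n).2.2
        have e2 : finrank (ZMod 2) (lagW n).1 = n := (lagW n).2.2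
        rw [e1, e2]
    refine ⟨⟨tv w, h3⟩, Subtype.ext (funext fun v => ?_)⟩
    have e1 : ((MulAction.stabilizer (Sp n) (lagW n)).subtype ⟨tv w, h3⟩ • q0 n).1 v = sm (tv w) th0 v := rfl
    rw [e1, sm_tv_of_zero th0_qf hw0, hw]
  · rintro ⟨⟨t, ht⟩, hθ⟩ ⟨h, hh⟩ hhθ
    have h1 : ∀ v ∈ (lagW n).1, θ.1 v = 0 := by
      intro v hv
      have e1 : θ.1 v = th0 (t⁻¹ • v) := by rw [← hθ]; rfl
      rw [e1]
      apply th0_lagW
      rw [MulAction.mem_stabilizer_iff] at ht
      have e2 : v ∈ (t • lagW n).1 := by rw [ht]; exact hv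
      exact (mem_act _ _ _).1 e2
    exact dk_lag θ.2.1 (congrArg Subtype.val hhθ) h1 hh

theorem classInner_piL_psi : classInner (piL n) (Psi (n := n)) = 1 := by
  have := Fintype.ofFinite (MulAction.stabilizer (Sp n) (lagW n))
  have h1 : (piL n) = indFun (MulAction.stabilizer (Sp n) (lagW n)) (fun _ => 1) :=
    Cfsg.Agent.S0190.result (Lag n) (lagW n)
  have hcl : IsClassFunction (Sp n) (Psi (n := n)) := isCharacter_isClassFunction isCharacter_Psi
  rw [h1, Cfsg.Agent.Characters.Brauer.classInner_indFun _ _ _ _ hcl, classInner_def]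
  have hreal : ∀ h : Sp n, conj (Psi h) = Psi h := by
    intro h
    unfold Psi Op
    rw [map_mul, map_natCast]
    rcases dk_sq h with h1 | h1 <;> rw [h1] <;> simp
  have h2 : ∑ h : MulAction.stabilizer (Sp n) (lagW n), (1 : ℂ) * conj (Psi (h : Sp n)) =
      Nat.card (MulAction.stabilizer (Sp n) (lagW n)) := by
    rw [← sum_psi_stab]
    exact Finset.sum_congr rfl fun h _ => by rw [one_mul, hreal]
  rw [h2]
  exact inv_mul_cancel₀ card_ne_zero_complex

theorem classInner_piL_one : classInner (piL n) 1 = 1 := by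
  have h1 : (piL n) = indFun (MulAction.stabilizer (Sp n) (lagW n)) (fun _ => 1) :=
    Cfsg.Agent.S0190.result (Lag n) (lagW n)
  have := Fintype.ofFinite (MulAction.stabilizer (Sp n) (lagW n))
  have hcl : IsClassFunction (Sp n) (1 : Sp n → ℂ) := fun _ _ => rfl
  rw [h1, Cfsg.Agent.Characters.Brauer.classInner_indFun _ _ _ _ hcl, classInner_def]
  have h2 : ∑ h : MulAction.stabilizer (Sp n) (lagW n), (1 : ℂ) * conj ((1 : Sp n → ℂ) (h : Sp n)) =
      Nat.card (MulAction.stabilizer (Sp n) (lagW n)) := by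
    simp only [Pi.one_apply, map_one, mul_one, Finset.sum_const, Finset.card_univ, nsmul_eq_mul,
      Nat.card_eq_fintype_card]
  rw [h2]
  exact inv_mul_cancel₀ card_ne_zero_complex

end Cfsg.Agent.H797.EP
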