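import Mathlib
import Cfsg.Agent.H797.EP.OddK
import Cfsg.Agent.H352.EP.SpOddEv

/-!
# `Sp_2n(2)`, primes `p` such that the order `d` of 2 mod `p` is odd and `d < n`
-/

set_option autoImplicit false

namespace Cfsg.Agent.H797.EP

open Cfsg.Agent.H352.EP Cfsg.Agent.H892.EP

/-- the row `Sp_2n(2)`, odd type, `d < n` -/
theorem psp2_odd {p n d : ℕ} [Fact p.Prime] (hp2 : p ≠ 2) (hn3 : 3 ≤ n) (hodd : Odd d)
    (hd : ∀ j, p ∣ 2 ^ j - 1 ↔ d ∣ j) (hdn : d < n) : EvAt p (Sp n) := by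
  have hd0 : 0 < d := hodd.pos
  have h1 : n = n / d * d + n % d := (Nat.div_add_mod' n d).symm
  obtain ⟨x, N, N', V2, D, h2, h3⟩ := exists_XD (p := p) (a := n / d) (b := n % d) hp2 hodd ((hd d).2 dvd_rfl)
    (fun j => (hd j).1) h1 (Nat.mod_lt _ hd0) (Nat.div_pos hdn.le hd0) (by
      by_contra h
      push Not at h
      obtain ⟨h4, h5⟩ := h
      rw [h4, add_zero] at h1
      have h6 : n / d ≤ 1 := by omega
      have h7 := Nat.mul_le_mul_right d h6
      omega)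
  exact evAt_of_XD hn3 D h2 h3

end Cfsg.Agent.H797.EP
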